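import Groth.Agent.WiebeLib.Basic
import Groth.Prelude.Def_LCI2

/-!
Comparison with the cone model of the Koszul complex, and flat base change of exactness.
-/

set_option autoImplicit false
set_option linter.style.haveILetI false
set_option linter.unusedSectionVars false
set_option linter.unusedSimpArgs false
set_option backward.isDefEq.respectTransparency false

universe u

open CategoryTheory CategoryTheory.Limits CochainComplex TensorProduct

namespace Groth.Agent.WiebeLib

variable {R : Type u} [CommRing R]

/-- The cone model agrees with the elementary Koszul complex. -/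
structure Comparison {n : ℕ} (f : Fin n → R) (K : CochainComplex (ModuleCat.{u} R) ℤ) : Type u where
  isZero_pos : ∀ i : ℤ, 0 < i → IsZero (K.X i)
  e : ∀ (i : ℤ) (k : ℕ), i = -(k : ℤ) → K.X i ≃ₗ[R] Ko R n k
  comm : ∀ (i j : ℤ) (k : ℕ) (hi : i = -((k + 1 : ℕ) : ℤ)) (hj : j = -(k : ℤ)) (z : K.X i),
    e j k hj (K.d i j z) = d n f k (e i (k + 1) hi z)

theorem nonempty_comparison : ∀ {n : ℕ} (f : Fin n → R),
    Nonempty (Comparison f (Koszul.koszul R (List.ofFn f)))
  | 0, f => by
    let K := (CochainComplex.singleFunctor (ModuleCat.{u} R) 0).obj (ModuleCat.of R R)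
    show Nonempty (Comparison f K)
    have hne : ∀ i : ℤ, i ≠ 0 → IsZero (K.X i) := fun i hi =>
      HomologicalComplex.isZero_single_obj_X (ComplexShape.up ℤ) 0 (ModuleCat.of R R) i hi
    let e₀ : K.X 0 ≃ₗ[R] R :=
      (HomologicalComplex.singleObjXSelf (ComplexShape.up ℤ) 0 (ModuleCat.of R R)).toLinearEquiv
    refine ⟨⟨fun i hi => hne i hi.ne', fun i k h => match k, h with
      | 0, h => (eqToIso (congrArg K.X (h.trans (neg_zero : -(0 : ℤ) = 0)))).toLinearEquiv ≪≫ₗ e₀ ≪≫ₗ (base 0).symm
      | k + 1, h =>
        haveI := ModuleCat.subsingleton_of_isZero (hne i (by omega))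
        haveI := subsingleton_ko R (Nat.zero_lt_succ k)
        LinearEquiv.ofSubsingleton _ _, ?_⟩⟩
    intro i j k hi hj z
    haveI := ModuleCat.subsingleton_of_isZero (hne i (by omega))
    rw [Subsingleton.elim z 0, map_zero, map_zero, map_zero, map_zero]
  | n + 1, f => by
    obtain ⟨L⟩ := nonempty_comparison fun i : Fin n => f i.succ
    rw [List.ofFn_succ]
    let K := Koszul.koszul R (List.ofFn fun i : Fin n => f i.succ)
    let φ : K ⟶ K := f 0 • 𝟙 K
    show Nonempty (Comparison f (mappingCone φ))
    let fstm := fun (i j : ℤ) (h : i + 1 = j) => ((mappingCone.fst φ).1.v i j h).hom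
    let sndm := fun i : ℤ => ((mappingCone.snd φ).v i i (add_zero i)).hom
    let inlm := fun (j i : ℤ) (h : i + 1 = j) => ((mappingCone.inl φ).v j i (by omega)).hom
    let inrm := fun i : ℤ => ((mappingCone.inr φ).f i).hom
    have hid : ∀ (i j : ℤ) (h : i + 1 = j) (z : (mappingCone φ).X i),
        inlm j i h (fstm i j h z) + inrm i (sndm i z) = z := fun i j h z =>
      ConcreteCategory.congr_hom (mappingCone.id_X φ i j h) z
    have h11 : ∀ (i j : ℤ) (h : i + 1 = j) (x : K.X j), fstm i j h (inlm j i h x) = x := fun i j h x =>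
      ConcreteCategory.congr_hom (mappingCone.inl_v_fst_v φ j i h) x
    have h12 : ∀ (i j : ℤ) (h : i + 1 = j) (x : K.X j), sndm i (inlm j i h x) = 0 := fun i j h x =>
      ConcreteCategory.congr_hom (mappingCone.inl_v_snd_v φ j i (by omega)) x
    have h21 : ∀ (i j : ℤ) (h : i + 1 = j) (y : K.X i), fstm i j h (inrm i y) = 0 := fun i j h y =>
      ConcreteCategory.congr_hom (mappingCone.inr_f_fst_v φ i j h) y
    have h22 : ∀ (i : ℤ) (y : K.X i), sndm i (inrm i y) = y := fun i y =>
      ConcreteCategory.congr_hom (mappingCone.inr_f_snd_v φ i) y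
    refine ⟨⟨fun i hi => (mappingCone.isZero_X_iff φ i).mpr ⟨L.isZero_pos _ (by omega), L.isZero_pos _ hi⟩,
      fun i k h => match k, h with
        | 0, h => LinearEquiv.ofLinearMap
            ((L.e i 0 h).toLinearMap ∘ₗ sndm i) (inrm i ∘ₗ (L.e i 0 h).symm.toLinearMap)
            (LinearMap.ext fun x => by
              show L.e i 0 h (sndm i (inrm i ((L.e i 0 h).symm x))) = x
              rw [h22, LinearEquiv.apply_symm_apply])
            (LinearMap.ext fun z => by
              show inrm i ((L.e i 0 h).symm (L.e i 0 h (sndm i z))) = z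
              rw [LinearEquiv.symm_apply_apply]
              haveI := ModuleCat.subsingleton_of_isZero (L.isZero_pos (i + 1) (by omega))
              have := hid i (i + 1) rfl z
              rw [Subsingleton.elim (fstm i (i + 1) rfl z) 0, map_zero, zero_add] at this
              exact this)
        | k + 1, h => LinearEquiv.ofLinearMap
            (pairL ((L.e i (k + 1) h).toLinearMap ∘ₗ sndm i)
              ((L.e (i + 1) k (by omega)).toLinearMap ∘ₗ fstm i (i + 1) rfl))
            (inlm (i + 1) i rfl ∘ₗ (L.e (i + 1) k (by omega)).symm.toLinearMap ∘ₗ sndL n k +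
              inrm i ∘ₗ (L.e i (k + 1) h).symm.toLinearMap ∘ₗ fstL n k)
            (LinearMap.ext fun x => ko_ext
              (by
                show L.e i (k + 1) h (sndm i (inlm (i + 1) i rfl ((L.e (i + 1) k (by omega)).symm (sndL n k x)) +
                  inrm i ((L.e i (k + 1) h).symm (fstL n k x)))) = fstL n k x
                rw [map_add, h12 i (i + 1) rfl, h22, zero_add, LinearEquiv.apply_symm_apply])
              (by
                show L.e (i + 1) k (by omega) (fstm i (i + 1) rfl
                  (inlm (i + 1) i rfl ((L.e (i + 1) k (by omega)).symm (sndL n k x)) +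
                    inrm i ((L.e i (k + 1) h).symm (fstL n k x)))) = sndL n k x
                rw [map_add, h11 i (i + 1) rfl, h21 i (i + 1) rfl, add_zero, LinearEquiv.apply_symm_apply]))
            (LinearMap.ext fun z => by
              show inlm (i + 1) i rfl ((L.e (i + 1) k (by omega)).symm (L.e (i + 1) k (by omega) (fstm i (i + 1) rfl z))) +
                inrm i ((L.e i (k + 1) h).symm (L.e i (k + 1) h (sndm i z))) = z
              rw [LinearEquiv.symm_apply_apply, LinearEquiv.symm_apply_apply, hid]), ?_⟩⟩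
    intro i j k hi hj z
    have hij : i + 1 = j := by omega
    subst hij
    have hsnd : sndm (i + 1) ((mappingCone φ).d i (i + 1) z) =
        f 0 • fstm i (i + 1) rfl z + K.d i (i + 1) (sndm i z) :=
      (ConcreteCategory.congr_hom (mappingCone.d_snd_v φ i (i + 1) rfl) z).trans (by rfl)
    cases k with
    | zero =>
      show L.e (i + 1) 0 hj (sndm (i + 1) ((mappingCone φ).d i (i + 1) z)) =
        d n (fun l => f l.succ) 0 (L.e i 1 hi (sndm i z)) + f 0 • L.e (i + 1) 0 _ (fstm i (i + 1) rfl z)
      rw [hsnd, map_add, map_smul, L.comm i (i + 1) 0 hi hj]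
      exact add_comm _ _
    | succ k =>
      have hfst : fstm (i + 1) (i + 1 + 1) rfl ((mappingCone φ).d i (i + 1) z) =
          -(K.d (i + 1) (i + 1 + 1) (fstm i (i + 1) rfl z)) :=
        ConcreteCategory.congr_hom (mappingCone.d_fst_v φ i (i + 1) (i + 1 + 1) rfl rfl) z
      apply ko_ext
      · show L.e (i + 1) (k + 1) hj (sndm (i + 1) ((mappingCone φ).d i (i + 1) z)) =
          d n (fun l => f l.succ) (k + 1) (L.e i (k + 1 + 1) hi (sndm i z)) +
            f 0 • L.e (i + 1) (k + 1) _ (fstm i (i + 1) rfl z)
        rw [hsnd, map_add, map_smul, L.comm i (i + 1) (k + 1) hi hj]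
        exact add_comm _ _
      · show L.e (i + 1 + 1) k _ (fstm (i + 1) (i + 1 + 1) rfl ((mappingCone φ).d i (i + 1) z)) =
          -(d n (fun l => f l.succ) k (L.e (i + 1) (k + 1) _ (fstm i (i + 1) rfl z)))
        rw [hfst, map_neg, L.comm (i + 1) (i + 1 + 1) k]

theorem isExact_of_isKoszulRegularSeq {n : ℕ} (f : Fin n → R) (h : LCI.IsKoszulRegularSeq R (List.ofFn f)) :
    IsExact f := by
  obtain ⟨L⟩ := nonempty_comparison f
  intro k x hx
  let K := Koszul.koszul R (List.ofFn f)
  have hex : K.ExactAt (-((k + 1 : ℕ) : ℤ)) :=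
    (HomologicalComplex.exactAt_iff_isZero_homology _ _).mpr (h _ (by omega))
  rw [HomologicalComplex.exactAt_iff' K (-((k + 1 + 1 : ℕ) : ℤ)) (-((k + 1 : ℕ) : ℤ)) (-(k : ℤ))
    (by simp; omega) (by simp), ShortComplex.moduleCat_exact_iff] at hex
  let z := (L.e _ (k + 1) rfl).symm x
  obtain ⟨w, hw⟩ := hex z ((L.e _ k rfl).injective (by
    show L.e _ k rfl (K.d _ _ z) = L.e _ k rfl 0
    rw [L.comm _ _ k rfl rfl, LinearEquiv.apply_symm_apply, hx, map_zero]))
  refine ⟨L.e _ (k + 1 + 1) rfl w, ?_⟩
  rw [← L.comm _ _ (k + 1) rfl rfl]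
  exact (congrArg (L.e _ (k + 1) rfl) hw).trans ((L.e _ (k + 1) rfl).apply_symm_apply x)

theorem d_map {S : Type u} [CommRing S] (α : R →+* S) : ∀ (n : ℕ) (f : Fin n → R) (k : ℕ) (x : Ko R n (k + 1)),
    d n (fun i => α (f i)) k (fun i => α (x i)) = fun i => α (d n f k x i) := by
  intro n
  induction n with
  | zero => intro f k x; funext i; exact (map_zero α).symm
  | succ n ih =>
    intro f k x
    cases k with
    | zero =>
      funext i
      show d n (fun l => α (f l.succ)) 0 (fun l => α (fstL n 0 x l)) i + α (f 0) * α (sndL n 0 x i) =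
        α (d n (fun l => f l.succ) 0 (fstL n 0 x) i + f 0 * sndL n 0 x i)
      rw [ih, map_add, map_mul]
    | succ k =>
      funext i
      cases i with
      | inl i =>
        show d n (fun l => α (f l.succ)) (k + 1) (fun l => α (fstL n (k + 1) x l)) i + α (f 0) * α (sndL n (k + 1) x i) =
          α (d n (fun l => f l.succ) (k + 1) (fstL n (k + 1) x) i + f 0 * sndL n (k + 1) x i)
        rw [ih, map_add, map_mul]
      | inr i =>
        show -(d n (fun l => α (f l.succ)) k (fun l => α (sndL n (k + 1) x l)) i) =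
          α (-(d n (fun l => f l.succ) k (sndL n (k + 1) x) i))
        rw [ih, map_neg]

/-- Exactness survives flat base change. -/
theorem isExact_map {S : Type u} [CommRing S] [Algebra R S] [Module.Flat R S] {n : ℕ} {f : Fin n → R}
    (hf : IsExact f) : IsExact fun i => algebraMap R S (f i) := by
  classical
  let e := fun k => TensorProduct.piScalarRight R S S (Idx n k)
  have he : ∀ (k : ℕ) (t : S ⊗[R] Ko R n (k + 1)),
      e k ((d n f k).lTensor S t) = d n (fun i => algebraMap R S (f i)) k (e (k + 1) t) := by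
    intro k t
    induction t using TensorProduct.induction_on with
    | zero => simp
    | tmul c x =>
      have hh : ∀ (m : ℕ) (y : Ko R n m), e m (c ⊗ₜ y) = c • (fun i => algebraMap R S (y i)) := fun m y => by
        funext i
        simp [e, Algebra.smul_def, mul_comm c]
      rw [LinearMap.lTensor_tmul, hh, hh, map_smul, d_map]
    | add a b ha hb => simp only [map_add, ha, hb]
  intro k x hx
  have hex : Function.Exact (d n f (k + 1)) (d n f k) := fun y =>
    ⟨hf k y, by rintro ⟨z, rfl⟩; exact d_d n f k z⟩
  obtain ⟨t, ht⟩ := (Module.Flat.lTensor_exact S hex ((e (k + 1)).symm x)).mp ((e k).injective (by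
    rw [he, LinearEquiv.apply_symm_apply, hx, map_zero]))
  exact ⟨e (k + 1 + 1) t, by rw [← he, ht, LinearEquiv.apply_symm_apply]⟩

end Groth.Agent.WiebeLib
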