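import Mathlib

/-!
An elementary Koszul complex: terms are free modules on recursively defined index types, the differential is
contraction against a sequence, and left multiplication by a vector is a null homotopy for the pairing.
Wiebe's colon formula follows.
-/

set_option autoImplicit false
set_option linter.style.haveILetI false
set_option linter.unusedSectionVars false
set_option linter.unusedSimpArgs false
set_option backward.isDefEq.respectTransparency false

universe u

namespace Groth.Agent.WiebeLib

open Finset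

/-- Index type of degree `k` of the Koszul complex on `n` elements. -/
def Idx : ℕ → ℕ → Type
  | 0, 0 => Unit
  | 0, _ + 1 => Empty
  | n + 1, 0 => Idx n 0
  | n + 1, k + 1 => Idx n (k + 1) ⊕ Idx n k

instance instFintypeIdx : ∀ n k : ℕ, Fintype (Idx n k)
  | 0, 0 => inferInstanceAs (Fintype Unit)
  | 0, _ + 1 => inferInstanceAs (Fintype Empty)
  | n + 1, 0 => instFintypeIdx n 0
  | n + 1, k + 1 =>
    haveI := instFintypeIdx n (k + 1)
    haveI := instFintypeIdx n k
    inferInstanceAs (Fintype (Idx n (k + 1) ⊕ Idx n k))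

noncomputable instance (n k : ℕ) : DecidableEq (Idx n k) := Classical.decEq _

theorem isEmpty_idx : ∀ {n k : ℕ}, n < k → IsEmpty (Idx n k)
  | 0, k + 1, _ => inferInstanceAs (IsEmpty Empty)
  | n + 1, k + 1, h =>
    haveI := isEmpty_idx (n := n) (k := k + 1) (by omega)
    haveI := isEmpty_idx (n := n) (k := k) (by omega)
    inferInstanceAs (IsEmpty (Idx n (k + 1) ⊕ Idx n k))

variable (R : Type u) [CommRing R]

/-- Degree `k` of the Koszul complex on `n` elements. -/
abbrev Ko (n k : ℕ) : Type u := Idx n k → R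

theorem subsingleton_ko {n k : ℕ} (h : n < k) : Subsingleton (Ko R n k) :=
  haveI := isEmpty_idx h
  inferInstance

variable {R}

/-- The part free of the first generator. -/
def fstL (n k : ℕ) : Ko R (n + 1) (k + 1) →ₗ[R] Ko R n (k + 1) :=
  LinearMap.funLeft R R (Sum.inl : Idx n (k + 1) → Idx (n + 1) (k + 1))

/-- The coefficient of the first generator. -/
def sndL (n k : ℕ) : Ko R (n + 1) (k + 1) →ₗ[R] Ko R n k :=
  LinearMap.funLeft R R (Sum.inr : Idx n k → Idx (n + 1) (k + 1))

/-- Pairing of two components. -/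
def pairL {n k : ℕ} {M : Type*} [AddCommGroup M] [Module R M] (a : M →ₗ[R] Ko R n (k + 1)) (b : M →ₗ[R] Ko R n k) :
    M →ₗ[R] Ko R (n + 1) (k + 1) where
  toFun x := Sum.elim (a x) (b x)
  map_add' x y := by funext i; cases i <;> simp <;> rfl
  map_smul' c x := by funext i; cases i <;> simp <;> rfl

@[simp] theorem fst_pair {n k : ℕ} {M : Type*} [AddCommGroup M] [Module R M] (a : M →ₗ[R] Ko R n (k + 1))
    (b : M →ₗ[R] Ko R n k) (x : M) : fstL n k (pairL a b x) = a x := rfl

@[simp] theorem snd_pair {n k : ℕ} {M : Type*} [AddCommGroup M] [Module R M] (a : M →ₗ[R] Ko R n (k + 1))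
    (b : M →ₗ[R] Ko R n k) (x : M) : sndL n k (pairL a b x) = b x := rfl

theorem ko_ext {n k : ℕ} {x y : Ko R (n + 1) (k + 1)} (h₁ : fstL n k x = fstL n k y) (h₂ : sndL n k x = sndL n k y) :
    x = y := by
  funext i
  cases i with
  | inl i => exact congrFun h₁ i
  | inr i => exact congrFun h₂ i

/-- The differential. -/
def d : ∀ (n : ℕ) (_ : Fin n → R) (k : ℕ), Ko R n (k + 1) →ₗ[R] Ko R n k
  | 0, _, _ => 0
  | n + 1, g, 0 => d n (fun i => g i.succ) 0 ∘ₗ fstL n 0 + g 0 • sndL n 0
  | n + 1, g, k + 1 =>
    pairL (d n (fun i => g i.succ) (k + 1) ∘ₗ fstL n (k + 1) + g 0 • sndL n (k + 1))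
      (-(d n (fun i => g i.succ) k ∘ₗ sndL n (k + 1)))

/-- Left multiplication by a vector. -/
def eta : ∀ (n : ℕ) (_ : Fin n → R) (k : ℕ), Ko R n k →ₗ[R] Ko R n (k + 1)
  | 0, _, _ => 0
  | n + 1, v, 0 => pairL (n := n) (k := 0) (M := Ko R n 0) (eta n (fun i => v i.succ) 0) (v 0 • LinearMap.id)
  | n + 1, v, k + 1 =>
    pairL (eta n (fun i => v i.succ) (k + 1) ∘ₗ fstL n k) (v 0 • fstL n k - eta n (fun i => v i.succ) k ∘ₗ sndL n k)

theorem d_d : ∀ (n : ℕ) (g : Fin n → R) (k : ℕ) (x : Ko R n (k + 1 + 1)), d n g k (d n g (k + 1) x) = 0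
  | 0, g, k, x => rfl
  | n + 1, g, 0, x => by
    show d n (fun i => g i.succ) 0 (fstL n 0 (d (n + 1) g 1 x)) + g 0 • sndL n 0 (d (n + 1) g 1 x) = (0 : Ko R n 0)
    simp only [d, LinearMap.add_apply, LinearMap.coe_comp, Function.comp_apply, LinearMap.smul_apply, fst_pair,
      snd_pair, LinearMap.neg_apply, map_add, map_smul, smul_neg]
    rw [d_d n _ 0 (fstL n 1 x), zero_add]
    exact add_neg_cancel _
  | n + 1, g, k + 1, x => by
    apply ko_ext
    · simp only [d, LinearMap.add_apply, LinearMap.coe_comp, Function.comp_apply, LinearMap.smul_apply, fst_pair,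
        snd_pair, LinearMap.neg_apply, map_add, map_smul, map_zero, smul_neg]
      rw [d_d n _ (k + 1) (fstL n (k + 2) x), zero_add]
      exact add_neg_cancel _
    · simp only [d, LinearMap.add_apply, LinearMap.coe_comp, Function.comp_apply, LinearMap.smul_apply,
        snd_pair, LinearMap.neg_apply, map_neg, map_zero, neg_neg]
      exact d_d n _ k (sndL n (k + 2) x)

theorem eta_eta : ∀ (n : ℕ) (v : Fin n → R) (k : ℕ) (x : Ko R n k), eta n v (k + 1) (eta n v k x) = 0
  | 0, v, k, x => rfl
  | n + 1, v, 0, x => by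
    apply ko_ext
    · simp only [eta, LinearMap.coe_comp, Function.comp_apply, fst_pair, map_zero]
      exact eta_eta n _ 0 x
    · simp only [eta, LinearMap.sub_apply, LinearMap.coe_comp, Function.comp_apply, LinearMap.smul_apply,
        fst_pair, snd_pair, map_zero, map_smul]
      exact sub_self _
  | n + 1, v, k + 1, x => by
    apply ko_ext
    · simp only [eta, LinearMap.coe_comp, Function.comp_apply, fst_pair, map_zero]
      exact eta_eta n _ (k + 1) (fstL n k x)
    · simp only [eta, LinearMap.sub_apply, LinearMap.coe_comp, Function.comp_apply, LinearMap.smul_apply,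
        fst_pair, snd_pair, map_zero, map_sub, map_smul]
      rw [eta_eta n _ k (sndL n k x), sub_zero]
      exact sub_self _

theorem d_eta_zero : ∀ (n : ℕ) (g v : Fin n → R) (x : Ko R n 0), d n g 0 (eta n v 0 x) = (∑ i, v i * g i) • x
  | 0, g, v, x => by simp [d]
  | n + 1, g, v, x => by
    rw [Fin.sum_univ_succ, add_smul]
    let y : Ko R n 0 := x
    show d n (fun i => g i.succ) 0 (eta n (fun i => v i.succ) 0 y) + g 0 • (v 0 • y) =
      (v 0 * g 0) • y + (∑ i : Fin n, v i.succ * g i.succ) • y
    rw [d_eta_zero n, smul_smul, mul_comm (g 0)]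
    exact add_comm _ _

theorem d_eta : ∀ (n : ℕ) (g v : Fin n → R) (k : ℕ) (x : Ko R n (k + 1)),
    d n g (k + 1) (eta n v (k + 1) x) + eta n v k (d n g k x) = (∑ i, v i * g i) • x
  | 0, g, v, k, x => by simp [d, eta]
  | n + 1, g, v, k, x => by
    rw [Fin.sum_univ_succ]
    cases k with
    | zero =>
      let a := fstL n 0 x
      let b := sndL n 0 x
      have h1 := d_eta n (fun i => g i.succ) (fun i => v i.succ) 0 a
      have h2 := d_eta_zero n (fun i => g i.succ) (fun i => v i.succ) b
      apply ko_ext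
      · show d n (fun i => g i.succ) 1 (eta n (fun i => v i.succ) 1 a) +
            g 0 • (v 0 • a - eta n (fun i => v i.succ) 0 b) +
            eta n (fun i => v i.succ) 0 (d n (fun i => g i.succ) 0 a + g 0 • b) =
          (v 0 * g 0 + ∑ i : Fin n, v i.succ * g i.succ) • a
        rw [map_add, map_smul, add_smul, smul_sub, smul_smul, mul_comm (g 0)]
        linear_combination (norm := module) h1
      · show -(d n (fun i => g i.succ) 0 (v 0 • a - eta n (fun i => v i.succ) 0 b)) +
            v 0 • (d n (fun i => g i.succ) 0 a + g 0 • b) =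
          (v 0 * g 0 + ∑ i : Fin n, v i.succ * g i.succ) • b
        rw [map_sub, map_smul, add_smul, smul_add, smul_smul]
        linear_combination (norm := module) h2
    | succ k =>
      apply ko_ext
      · simp only [d, eta, map_add, map_smul, LinearMap.add_apply, LinearMap.coe_comp, Function.comp_apply,
          LinearMap.smul_apply, LinearMap.sub_apply, fst_pair, snd_pair]
        have h1 := d_eta n (fun i => g i.succ) (fun i => v i.succ) (k + 1) (fstL n (k + 1) x)
        rw [add_smul, smul_sub, smul_smul, mul_comm (g 0)]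
        linear_combination (norm := module) h1
      · simp only [d, eta, map_add, map_smul, map_sub, map_neg, LinearMap.add_apply, LinearMap.coe_comp,
          Function.comp_apply, LinearMap.smul_apply, LinearMap.sub_apply, LinearMap.neg_apply, fst_pair, snd_pair]
        have h1 := d_eta n (fun i => g i.succ) (fun i => v i.succ) k (sndL n (k + 1) x)
        rw [add_smul, smul_add, smul_smul]
        linear_combination (norm := module) h1

theorem d_mem : ∀ (n : ℕ) (g : Fin n → R) (k : ℕ) (x : Ko R n (k + 1)) (i : Idx n k),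
    d n g k x i ∈ Ideal.span (Set.range g) := by
  intro n
  induction n with
  | zero => intro g k x i; exact zero_mem _
  | succ n ih =>
    intro g k x i
    have hle : Ideal.span (Set.range fun i : Fin n => g i.succ) ≤ Ideal.span (Set.range g) :=
      Ideal.span_mono (by rintro _ ⟨j, rfl⟩; exact ⟨j.succ, rfl⟩)
    have h0 : g 0 ∈ Ideal.span (Set.range g) := Ideal.subset_span ⟨0, rfl⟩
    cases k with
    | zero => exact add_mem (hle (ih _ _ _ _)) (Ideal.mul_mem_right _ _ h0)
    | succ k =>
      cases i with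
      | inl i => exact add_mem (hle (ih _ _ _ _)) (Ideal.mul_mem_right _ _ h0)
      | inr i => exact neg_mem (hle (ih _ _ _ _))

/-- Degree zero is the ring. -/
def base : ∀ n : ℕ, Ko R n 0 ≃ₗ[R] R
  | 0 => LinearEquiv.funUnique Unit R R
  | n + 1 => base n

theorem base_apply_mem {n : ℕ} {I : Ideal R} {x : Ko R n 0} (h : ∀ i, x i ∈ I) : base n x ∈ I := by
  induction n with
  | zero => exact h _
  | succ n ih => exact ih h

theorem mem_range_d_zero {n : ℕ} (g : Fin n → R) (x : Ko R n 0) :
    x ∈ LinearMap.range (d n g 0) ↔ base n x ∈ Ideal.span (Set.range g) := by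
  constructor
  · rintro ⟨y, rfl⟩
    exact base_apply_mem fun i => d_mem n g 0 y i
  · intro h
    have : Ideal.span (Set.range g) ≤ (LinearMap.range (d n g 0)).map (base n).toLinearMap := by
      rw [Ideal.span, Submodule.span_le]
      rintro _ ⟨j, rfl⟩
      refine ⟨d n g 0 (eta n (Pi.single j 1) 0 ((base n).symm 1)), ⟨_, rfl⟩, ?_⟩
      simp [d_eta_zero, Pi.single_apply]
    obtain ⟨z, hz, hzx⟩ := this h
    rwa [← (base n).injective hzx]

/-- The map of Koszul complexes given by a matrix. -/
def U {n : ℕ} : ∀ (m : ℕ) (_ : Fin m → Fin n → R) (k : ℕ), Ko R m k →ₗ[R] Ko R n k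
  | 0, _, 0 => ((base n).symm.toLinearMap ∘ₗ (base 0).toLinearMap)
  | 0, _, _ + 1 => 0
  | m + 1, C, 0 => U m (fun i => C i.succ) 0
  | m + 1, C, k + 1 =>
    U m (fun i => C i.succ) (k + 1) ∘ₗ fstL m k + eta n (C 0) k ∘ₗ U m (fun i => C i.succ) k ∘ₗ sndL m k

theorem U_zero_apply {n : ℕ} : ∀ (m : ℕ) (C : Fin m → Fin n → R) (x : Ko R m 0),
    U m C 0 x = (base n).symm (base m x)
  | 0, _, _ => rfl
  | m + 1, C, x => U_zero_apply m (fun i => C i.succ) x

theorem d_U {n : ℕ} (g : Fin n → R) : ∀ (m : ℕ) (C : Fin m → Fin n → R) (k : ℕ) (x : Ko R m (k + 1)),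
    d n g k (U m C (k + 1) x) = U m C k (d m (fun i => ∑ j, C i j * g j) k x)
  | 0, C, k, x => by simp [U, d]
  | m + 1, C, 0, x => by
    show d n g 0 (U (m + 1) C 1 x) = U m (fun i => C i.succ) 0
      (d m (fun i => ∑ j, C i.succ j * g j) 0 (fstL m 0 x) + (∑ j, C 0 j * g j) • sndL m 0 x)
    simp only [U, LinearMap.add_apply, LinearMap.coe_comp, Function.comp_apply, map_add,
      map_smul, d_eta_zero]
    rw [d_U g m]
  | m + 1, C, k + 1, x => by
    simp only [U, d, LinearMap.add_apply, LinearMap.coe_comp, Function.comp_apply, LinearMap.smul_apply,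
      LinearMap.neg_apply, fst_pair, snd_pair, map_add, map_smul, map_neg]
    rw [d_U g m, ← d_U g m (fun i => C i.succ) k]
    have h1 := d_eta n g (C 0) k (U m (fun i => C i.succ) (k + 1) (sndL m (k + 1) x))
    linear_combination (norm := module) h1

/-- The product of the rows. -/
def prodRows {n : ℕ} : ∀ m : ℕ, MultilinearMap R (fun _ : Fin m => Fin n → R) (Ko R n m)
  | 0 => MultilinearMap.constOfIsEmpty R _ ((base n).symm 1)
  | m + 1 => LinearMap.uncurryLeft
      { toFun := fun v => (eta n v m).compMultilinearMap (prodRows m)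
        map_add' := fun v w => by
          refine MultilinearMap.ext fun C => ?_
          show eta n (v + w) m (prodRows m C) = eta n v m (prodRows m C) + eta n w m (prodRows m C)
          rw [eta_add]; rfl
        map_smul' := fun c v => by
          refine MultilinearMap.ext fun C => ?_
          show eta n (c • v) m (prodRows m C) = c • eta n v m (prodRows m C)
          rw [eta_smul]; rfl }
where
  eta_add {n : ℕ} : ∀ {k : ℕ} {v w : Fin n → R}, eta n (v + w) k = eta n v k + eta n w k := by
    induction n with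
    | zero => intro k v w; simp [eta]
    | succ n ih =>
      intro k v w
      cases k with
      | zero =>
        refine LinearMap.ext fun x => ko_ext ?_ ?_
        · simp only [eta, fst_pair, LinearMap.add_apply, map_add]
          exact LinearMap.congr_fun (ih (v := fun i => v i.succ) (w := fun i => w i.succ)) x
        · simp only [eta, snd_pair, LinearMap.add_apply, map_add, LinearMap.smul_apply, Pi.add_apply, add_smul]
      | succ k =>
        refine LinearMap.ext fun x => ko_ext ?_ ?_
        · simp only [eta, fst_pair, LinearMap.add_apply, map_add, LinearMap.coe_comp, Function.comp_apply]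
          exact LinearMap.congr_fun (ih (v := fun i => v i.succ) (w := fun i => w i.succ)) (fstL n k x)
        · simp only [eta, snd_pair, LinearMap.add_apply, map_add, LinearMap.sub_apply, LinearMap.smul_apply,
            LinearMap.coe_comp, Function.comp_apply, Pi.add_apply, add_smul]
          rw [show (fun i : Fin n => v i.succ + w i.succ) = (fun i => v i.succ) + (fun i => w i.succ) from rfl, ih,
            LinearMap.add_apply]
          module
  eta_smul {n : ℕ} : ∀ {k : ℕ} {c : R} {v : Fin n → R}, eta n (c • v) k = c • eta n v k := by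
    induction n with
    | zero => intro k c v; simp [eta]
    | succ n ih =>
      intro k c v
      cases k with
      | zero =>
        refine LinearMap.ext fun x => ko_ext ?_ ?_
        · simp only [eta, fst_pair, LinearMap.smul_apply, map_smul]
          exact LinearMap.congr_fun (ih (c := c) (v := fun i => v i.succ)) x
        · simp only [eta, snd_pair, LinearMap.smul_apply, map_smul, Pi.smul_apply, smul_eq_mul, mul_smul]
      | succ k =>
        refine LinearMap.ext fun x => ko_ext ?_ ?_
        · simp only [eta, fst_pair, LinearMap.smul_apply, map_smul, LinearMap.coe_comp, Function.comp_apply]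
          exact LinearMap.congr_fun (ih (c := c) (v := fun i => v i.succ)) (fstL n k x)
        · simp only [eta, snd_pair, LinearMap.smul_apply, map_smul, LinearMap.sub_apply,
            LinearMap.coe_comp, Function.comp_apply, Pi.smul_apply, smul_eq_mul, mul_smul]
          rw [show (fun i : Fin n => c * v i.succ) = c • (fun i => v i.succ) from rfl, ih, LinearMap.smul_apply]
          module

theorem prodRows_succ {n m : ℕ} (C : Fin (m + 1) → Fin n → R) :
    prodRows (m + 1) C = eta n (C 0) m (prodRows m (fun i => C i.succ)) := rfl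

theorem eta_prodRows {n : ℕ} : ∀ (m : ℕ) (C : Fin m → Fin n → R) (i : Fin m),
    eta n (C i) m (prodRows m C) = 0
  | m + 1, C, i => by
    rw [prodRows_succ]
    induction i using Fin.cases with
    | zero => exact eta_eta n _ m _
    | succ i =>
      have h1 := eta_eta n (C i.succ + C 0) m (prodRows m (fun i => C i.succ))
      simp only [prodRows.eta_add, LinearMap.add_apply, map_add, eta_eta, add_zero, zero_add] at h1
      rw [eta_prodRows m (fun i => C i.succ) i, map_zero, zero_add] at h1
      exact h1

theorem prodRows_eq_zero {n : ℕ} : ∀ (m : ℕ) (C : Fin m → Fin n → R) (i j : Fin m),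
    C i = C j → i ≠ j → prodRows m C = 0
  | m + 1, C, i, j, h, hij => by
    rw [prodRows_succ]
    induction i using Fin.cases with
    | zero =>
      induction j using Fin.cases with
      | zero => exact absurd rfl hij
      | succ j => rw [h]; exact eta_prodRows (n := n) m (fun i => C i.succ) j
    | succ i =>
      induction j using Fin.cases with
      | zero => rw [← h]; exact eta_prodRows (n := n) m (fun i => C i.succ) i
      | succ j => rw [prodRows_eq_zero m (fun i => C i.succ) i j h (by simpa using hij), map_zero]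

/-- Inclusion of the part free of the first generator. -/
def emb : ∀ (n k : ℕ), Ko R n k →ₗ[R] Ko R (n + 1) k
  | _, 0 => LinearMap.id
  | _, _ + 1 => pairL LinearMap.id 0

theorem eta_emb {n : ℕ} (v : Fin n → R) (k : ℕ) (x : Ko R n k) :
    eta (n + 1) (Fin.cons 0 v) k (emb n k x) = emb n (k + 1) (eta n v k x) := by
  cases k with
  | zero =>
    apply ko_ext
    · simp [eta, emb]
      rfl
    · simp [eta, emb]
  | succ k =>
    apply ko_ext
    · simp [eta, emb]
    · simp [eta, emb]

theorem prodRows_emb {n : ℕ} : ∀ (m : ℕ) (C : Fin m → Fin n → R),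
    prodRows m (fun i => (Fin.cons 0 (C i) : Fin (n + 1) → R)) = emb n m (prodRows m C)
  | 0, _ => rfl
  | m + 1, C => by
    rw [prodRows_succ, prodRows_succ, prodRows_emb m (fun i => C i.succ), eta_emb]

/-- The top element. -/
def top : ∀ n : ℕ, Ko R n n
  | 0 => (base 0).symm 1
  | n + 1 => Sum.elim 0 (top n)

/-- The coefficient of the top element. -/
def coef : ∀ n : ℕ, Ko R n n →ₗ[R] R
  | 0 => (base 0).toLinearMap
  | n + 1 => coef n ∘ₗ sndL n n

theorem coef_top : ∀ n : ℕ, coef n (top (R := R) n) = 1
  | 0 => (base 0).apply_symm_apply 1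
  | n + 1 => coef_top n

theorem coef_mem {I : Ideal R} : ∀ (n : ℕ) (x : Ko R n n), (∀ i, x i ∈ I) → coef n x ∈ I
  | 0, _, h => h _
  | n + 1, _, h => coef_mem n _ fun i => h (Sum.inr i)

theorem eq_coef_smul_top : ∀ (n : ℕ) (x : Ko R n n), x = coef n x • top n
  | 0, x => by
    apply (base (R := R) 0).injective
    simp [coef, top]
  | n + 1, x => by
    apply ko_ext
    · haveI := subsingleton_ko R (Nat.lt_succ_self n)
      exact Subsingleton.elim _ _
    · rw [map_smul]
      exact eq_coef_smul_top n (sndL n n x)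

theorem prodRows_one : ∀ n : ℕ, prodRows n (fun i => (Pi.single i 1 : Fin n → R)) = top n
  | 0 => rfl
  | n + 1 => by
    rw [prodRows_succ,
      show (fun i : Fin n => (Pi.single i.succ 1 : Fin (n + 1) → R)) =
        fun i => Fin.cons 0 (Pi.single i 1 : Fin n → R) from funext fun i => funext fun j => by
          induction j using Fin.cases with
          | zero => simp [Pi.single_apply, (Fin.succ_ne_zero i).symm]
          | succ j => simp [Pi.single_apply],
      prodRows_emb, prodRows_one n]
    apply ko_ext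
    · haveI := subsingleton_ko R (Nat.lt_succ_self n)
      exact Subsingleton.elim _ _
    · cases n with
      | zero => simp [eta, emb, top]; rfl
      | succ n =>
        simp [eta, emb]
        rfl

theorem prodRows_eq_det {n : ℕ} (C : Fin n → Fin n → R) : prodRows n C = Matrix.det (Matrix.of C) • top n := by
  let φ : (Fin n → R) [⋀^Fin n]→ₗ[R] R :=
    (coef n).compAlternatingMap
      { prodRows (R := R) (n := n) n with map_eq_zero_of_eq' := fun C i j h hij => prodRows_eq_zero n C i j h hij }
  have h := congrArg (fun F : (Fin n → R) [⋀^Fin n]→ₗ[R] R => F C) (φ.eq_smul_basis_det (Pi.basisFun R (Fin n)))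
  rw [eq_coef_smul_top n (prodRows n C)]
  refine congrArg (· • top n) (h.trans ?_)
  have h1 : φ (Pi.basisFun R (Fin n)) = 1 := by
    show coef n (prodRows n _) = 1
    rw [show (⇑(Pi.basisFun R (Fin n)) : Fin n → Fin n → R) = fun i => Pi.single i 1 from
      funext fun i => Pi.basisFun_apply R (Fin n) i, prodRows_one, coef_top]
  simp only [h1, one_smul, Pi.basisFun_det]
  rfl

theorem U_top {n : ℕ} : ∀ (m : ℕ) (C : Fin m → Fin n → R), U m C m (top m) = prodRows m C
  | 0, _ => by
    show (base n).symm (base 0 ((base 0).symm 1)) = _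
    rw [LinearEquiv.apply_symm_apply]; rfl
  | m + 1, C => by
    have h1 : fstL m m (top (R := R) (m + 1)) = 0 := rfl
    have h2 : sndL m m (top (R := R) (m + 1)) = top m := rfl
    simp only [U, LinearMap.add_apply, LinearMap.coe_comp, Function.comp_apply, h1, h2, map_zero, zero_add]
    rw [U_top m]; rfl

/-- Exactness in positive degrees. -/
def IsExact {n : ℕ} (g : Fin n → R) : Prop :=
  ∀ (k : ℕ) (x : Ko R n (k + 1)), d n g k x = 0 → ∃ y, d n g (k + 1) y = x

theorem exists_factor {n k : ℕ} {M N : Type u} [AddCommGroup M] [Module R M] [AddCommGroup N] [Module R N]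
    (φ : Ko R n k →ₗ[R] N) (δ : M →ₗ[R] N) (h : ∀ x, φ x ∈ LinearMap.range δ) :
    ∃ ψ : Ko R n k →ₗ[R] M, δ ∘ₗ ψ = φ := by
  obtain ⟨ψ, hψ⟩ := Module.projective_lifting_property δ.rangeRestrict (φ.codRestrict _ h)
    δ.surjective_rangeRestrict
  exact ⟨ψ, LinearMap.ext fun x => congrArg Subtype.val (LinearMap.congr_fun hψ x)⟩

variable {n : ℕ} {f g : Fin n → R} {C : Fin n → Fin n → R} {x : R}

/-- One step of the simultaneous construction of a lift and a homotopy. -/
theorem exists_next (hf : IsExact f) (hC : ∀ i, f i = ∑ j, C i j * g j) {k : ℕ}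
    (φ : Ko R n k →ₗ[R] Ko R n k) (h : Ko R n k →ₗ[R] Ko R n (k + 1))
    (h₁ : ∀ y, φ (d n g k y) ∈ LinearMap.range (d n f k))
    (h₂ : ∀ y, φ (U n C k (d n f k y)) - x • d n f k y = d n f k (h (d n f k y))) :
    ∃ (φ' : Ko R n (k + 1) →ₗ[R] Ko R n (k + 1)) (h' : Ko R n (k + 1) →ₗ[R] Ko R n (k + 1 + 1)),
      (∀ y, φ' (d n g (k + 1) y) ∈ LinearMap.range (d n f (k + 1))) ∧
        (∀ y, φ' (U n C (k + 1) y) - x • y = d n f (k + 1) (h' y) + h (d n f k y)) := by
  have hf' : f = fun i => ∑ j, C i j * g j := funext hC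
  obtain ⟨φ', hφ'⟩ := exists_factor (φ ∘ₗ d n g k) (d n f k) h₁
  have hφ : ∀ y, d n f k (φ' y) = φ (d n g k y) := fun y => LinearMap.congr_fun hφ' y
  obtain ⟨h', hh'⟩ := exists_factor (φ' ∘ₗ U n C (k + 1) - x • LinearMap.id - h ∘ₗ d n f k) (d n f (k + 1))
    (fun y => hf k _ (by
      simp only [LinearMap.sub_apply, LinearMap.coe_comp, Function.comp_apply, LinearMap.smul_apply,
        LinearMap.id_apply, map_sub, map_smul, hφ, d_U, ← hf']
      rw [← h₂ y, sub_self]))
  refine ⟨φ', h', fun y => hf k _ (by rw [hφ, d_d, map_zero]), fun y => ?_⟩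
  have h0 := LinearMap.congr_fun hh' y
  simp only [LinearMap.sub_apply, LinearMap.coe_comp, Function.comp_apply, LinearMap.smul_apply,
    LinearMap.id_apply] at h0
  rw [h0]; abel

theorem exists_stage (hf : IsExact f) (hC : ∀ i, f i = ∑ j, C i j * g j)
    (hx : ∀ j, x * g j ∈ Ideal.span (Set.range f)) : ∀ k : ℕ,
    ∃ (φ : Ko R n k →ₗ[R] Ko R n k) (h : Ko R n k →ₗ[R] Ko R n (k + 1)),
      (∀ y, φ (d n g k y) ∈ LinearMap.range (d n f k)) ∧
        ∀ y, φ (U n C k (d n f k y)) - x • d n f k y = d n f k (h (d n f k y))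
  | 0 => by
    refine ⟨x • LinearMap.id, 0, fun y => ?_, fun y => ?_⟩
    · rw [mem_range_d_zero, LinearMap.smul_apply, LinearMap.id_apply, map_smul, smul_eq_mul]
      have hy := (mem_range_d_zero g _).mp ⟨y, rfl⟩
      have hle : Ideal.span (Set.range g) ≤ (Ideal.span (Set.range f)).colon {x} := by
        rw [Ideal.span_le]
        rintro _ ⟨j, rfl⟩
        rw [SetLike.mem_coe, Submodule.mem_colon_singleton, smul_eq_mul, mul_comm]
        exact hx j
      have := Submodule.mem_colon_singleton.mp (hle hy)
      rwa [smul_eq_mul, mul_comm] at this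
    · simp [U_zero_apply]
  | k + 1 => by
    obtain ⟨φ, h, h₁, h₂⟩ := exists_stage hf hC hx k
    obtain ⟨φ', h', h₁', h₂'⟩ := exists_next hf hC φ h h₁ h₂
    exact ⟨φ', h', h₁', fun y => by rw [h₂', d_d, map_zero, add_zero]⟩

/-- Wiebe's colon formula. -/
theorem mem_of_forall_mul_mem (hf : IsExact f) (hC : ∀ i, f i = ∑ j, C i j * g j)
    (hx : ∀ j, x * g j ∈ Ideal.span (Set.range f)) :
    x ∈ Ideal.span (Set.range f) ⊔ Ideal.span {Matrix.det (Matrix.of C)} := by
  cases n with
  | zero =>
    refine Ideal.mem_sup_right ?_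
    rw [Matrix.det_fin_zero, Ideal.span_singleton_one]
    trivial
  | succ m =>
    obtain ⟨φ, h, h₁, h₂⟩ := exists_stage hf hC hx m
    obtain ⟨φ', h', -, h₂'⟩ := exists_next hf hC φ h h₁ h₂
    haveI := subsingleton_ko R (Nat.lt_succ_self (m + 1))
    have hy := h₂' (top (m + 1))
    rw [Subsingleton.elim (h' (top (m + 1))) 0, map_zero, zero_add, U_top, prodRows_eq_det, map_smul] at hy
    have hc : ∀ i, h (d (m + 1) f m (top (m + 1))) i ∈ Ideal.span (Set.range f) := fun i => by
      rw [pi_eq_sum_univ (d (m + 1) f m (top (m + 1))), map_sum, Finset.sum_apply]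
      refine sum_mem fun j _ => ?_
      rw [map_smul, Pi.smul_apply, smul_eq_mul]
      exact Ideal.mul_mem_right _ _ (d_mem _ _ _ _ _)
    have hcm := coef_mem (m + 1) _ hc
    rw [← hy, map_sub, map_smul, map_smul, coef_top, smul_eq_mul, smul_eq_mul, mul_one] at hcm
    rw [show x = Matrix.det (Matrix.of C) * coef (m + 1) (φ' (top (m + 1))) -
      (Matrix.det (Matrix.of C) * coef (m + 1) (φ' (top (m + 1))) - x) by ring]
    exact Ideal.sub_mem _ (Ideal.mem_sup_right (Ideal.mul_mem_right _ _ (Ideal.mem_span_singleton_self _)))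
      (Ideal.mem_sup_left hcm)

theorem det_mul_mem (hC : ∀ i, f i = ∑ j, C i j * g j) (j : Fin n) :
    Matrix.det (Matrix.of C) * g j ∈ Ideal.span (Set.range f) := by
  have h : (Matrix.of C).mulVec g = f := funext fun i => (hC i).symm
  have h2 := congrArg ((Matrix.of C).adjugate.mulVec) h
  rw [Matrix.mulVec_mulVec, Matrix.adjugate_mul, Matrix.smul_mulVec, Matrix.one_mulVec] at h2
  have h3 := congrFun h2 j
  rw [Pi.smul_apply, smul_eq_mul] at h3
  rw [h3]
  show (∑ i, (Matrix.of C).adjugate j i * f i) ∈ _
  exact sum_mem fun i _ => Ideal.mul_mem_left _ _ (Ideal.subset_span ⟨i, rfl⟩)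

end Groth.Agent.WiebeLib
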